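import Groth.Agent.Lib.SerreVanish.Ample
import Groth.Agent.Lib.OX.PullbackTensor
import Groth.Agent.Lib.OX.AffineReflect
import Groth.Agent.Lib.Cohom.RpushSections
import Groth.Agent.Lib.BCCoh.RpushAffine
import Groth.Agent.Lib.Cohom.Compare

/-! # Relative Serre vanishing -/

set_option autoImplicit false
set_option linter.style.haveILetI false
set_option backward.isDefEq.respectTransparency false
universe u

open CategoryTheory CategoryTheory.Limits AlgebraicGeometry TopologicalSpace Opposite Abelian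

noncomputable section

namespace GrothLib.RelVanish

open GrothLib

variable {X S : Scheme.{u}}

/-- Restriction commutes with twisting by tensor powers. -/
theorem nonempty_restrict_tensorPow {U : Scheme.{u}} (j : U ⟶ X) [IsOpenImmersion j] (M : X.Modules)
    {L : X.Modules} (hL : PicF.IsInvertible L) (n : ℕ) :
    Nonempty ((CohB1.tensorMod M (CohB1.tensorPow L n)).restrict j ≅
      CohB1.tensorMod (M.restrict j) (CohB1.tensorPow (L.restrict j) n)) := by
  let r := fun (N : X.Modules) => (Scheme.Modules.restrictFunctorIsoPullback j).app N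
  obtain ⟨c, ⟨e⟩⟩ := Ample.exists_cocycle hL
  obtain ⟨e₁⟩ := c.nonempty_tensorPow_iso e n
  obtain ⟨a⟩ := c.nonempty_restrict_iso (j := j) e
  obtain ⟨b⟩ := (c.comap j).nonempty_tensorPow_iso a n
  obtain ⟨d⟩ := c.nonempty_restrict_iso (j := j) (Iso.refl (c.twist n))
  exact ⟨r _ ≪≫ OX.pullTensorIso j M (CohB1.tensorPow L n) ≪≫
    ((DCoh.tensorBi (X := U)).mapIso (r M).symm).app _ ≪≫
    ((DCoh.tensorBi (X := U)).obj (M.restrict j)).mapIso
      ((Scheme.Modules.pullback j).mapIso e₁ ≪≫ (r _).symm ≪≫ d ≪≫ b.symm)⟩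

variable (f : X ⟶ S)

theorem isProper_affBase [IsProper f] {V : S.Opens} (hV : IsAffineOpen V) :
    IsProper (BCCoh.affBase f hV) :=
  inferInstanceAs (IsProper ((f ∣_ V) ≫ hV.isoSpec.hom))

/-- Serre vanishing on the preimage of an affine open. -/
theorem exists_forall_subsingleton_preimage [IsProper f] [IsLocallyNoetherian S] {L : X.Modules}
    (hL : PicF.IsInvertible L) {V : S.Opens} (hV : IsAffineOpen V)
    (ha : CohB1.IsAmple (L.restrict (f ⁻¹ᵁ V).ι)) {M : X.Modules} (hM : Coh.IsCoh M) :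
    ∃ n₀ : ℕ, ∀ n, n₀ ≤ n → ∀ p, 1 ≤ p →
      Subsingleton (Ext.{u} (Cohom.freeFun.obj (f ⁻¹ᵁ V)) (Coh.toAb (CohB1.tensorMod M (CohB1.tensorPow L n))) p) := by
  haveI : IsNoetherianRing Γ(S, V) := IsLocallyNoetherian.component_noetherian ⟨V, hV⟩
  letI : ((f ⁻¹ᵁ V : X.Opens) : Scheme.{u}).Over (Spec (CommRingCat.of Γ(S, V))) := ⟨BCCoh.affBase f hV⟩
  haveI : IsProper (((f ⁻¹ᵁ V : X.Opens) : Scheme.{u}) ↘ Spec (CommRingCat.of Γ(S, V))) := isProper_affBase f hV
  obtain ⟨n₀, hn₀⟩ := SerreVanish.exists_forall_subsingleton Γ(S, V) ha (Cohom.isCoh_restrict M hM (f ⁻¹ᵁ V).ι)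
  refine ⟨n₀, fun n hn p hp => ?_⟩
  obtain ⟨φ⟩ := nonempty_restrict_tensorPow (f ⁻¹ᵁ V).ι M hL n
  haveI := hn₀ n hn p hp
  haveI : Subsingleton (Coh.HHon X (CohB1.tensorMod M (CohB1.tensorPow L n)) (f ⁻¹ᵁ V) p) :=
    (Euler.hhEquiv (A := Γ(S, V)) φ p).toEquiv.subsingleton
  obtain ⟨e⟩ := Cohom.nonempty_HHon_equiv (CohB1.tensorMod M (CohB1.tensorPow L n)) (f ⁻¹ᵁ V) p
  exact e.toEquiv.symm.subsingleton

variable [QuasiCompact f] [QuasiSeparated f]

/-- The abelian higher direct image vanishes when cohomology vanishes over an affine cover of the base. -/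
theorem isZero_RpushAb_of_cover (M : X.Modules) [M.IsQuasicoherent] (p : ℕ) {I : Type*} (W : I → S.Opens)
    (hW : ∀ i, IsAffineOpen (W i)) (hcov : ∀ x : S, ∃ i, x ∈ W i)
    (h : ∀ i, Subsingleton (Ext.{u} (Cohom.freeFun.obj (f ⁻¹ᵁ W i)) (Coh.toAb M) p)) :
    IsZero ((Coh.RpushAb f p).obj (Coh.toAb M)) := by
  obtain ⟨J⟩ := Cohom.nonempty_flRes' M
  obtain ⟨e⟩ := Cohom.nonempty_homology_iso_RpushAb f J p
  have hq : Coh.IsQCoh ((Cohom.pushCx f J.cocomplex).homology p) :=
    Cocyc.isQuasicoherent_homology (Cohom.localises_pushCx f J p)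
  have hz : IsZero ((Cohom.pushCx f J.cocomplex).homology p) := by
    refine OX.isZero_of_affine_cover hq W hW hcov fun i t => ?_
    haveI := h i
    haveI := (AddEquiv.ofBijective _ (Cohom.classToSection_bijective f J p (hW i))).symm.toEquiv.subsingleton
    exact Subsingleton.elim _ _
  exact ((QCoh.toAbFun S).map_isZero hz).of_iso e.symm

/-- The higher direct image of modules vanishes when cohomology vanishes over an affine cover of the base. -/
theorem isZero_Rpush_of_cover [HasInjectiveResolutions X.Modules] (M : X.Modules) [M.IsQuasicoherent] (p : ℕ)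
    {I : Type*} (W : I → S.Opens)
    (hW : ∀ i, IsAffineOpen (W i)) (hcov : ∀ x : S, ∃ i, x ∈ W i)
    (h : ∀ i, Subsingleton (Ext.{u} (Cohom.freeFun.obj (f ⁻¹ᵁ W i)) (Coh.toAb M) p)) :
    IsZero ((Coh.Rpush f p).obj M) := by
  refine OX.isZero_of_affine_cover (Cohom.isQuasicoherent_Rpush f M p) W hW hcov fun i t => ?_
  obtain ⟨e, -⟩ := BCCoh.exists_Rpush_equiv f (hW i) M p
  obtain ⟨e'⟩ := Cohom.nonempty_HHon_equiv M (f ⁻¹ᵁ W i) p
  haveI := h i
  haveI := e'.toEquiv.subsingleton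
  haveI := e.symm.toEquiv.subsingleton
  exact Subsingleton.elim _ _

/-- Conversely, vanishing of the higher direct image kills cohomology over affines. -/
theorem subsingleton_HHon_of_isZero_Rpush [HasInjectiveResolutions X.Modules] (M : X.Modules) [M.IsQuasicoherent]
    (p : ℕ) {V : S.Opens} (hV : IsAffineOpen V) (h : IsZero ((Coh.Rpush f p).obj M)) :
    Subsingleton (Coh.HHon X M (f ⁻¹ᵁ V) p) := by
  obtain ⟨e, -⟩ := BCCoh.exists_Rpush_equiv f hV M p
  haveI : Subsingleton Γ((Coh.Rpush f p).obj M, V) := subsingleton_of_forall_eq 0 fun t => by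
    have := congrArg (fun φ => Scheme.Modules.Hom.app φ V t) (h.eq_of_src (𝟙 _) 0)
    simpa using this
  exact e.toEquiv.subsingleton

end GrothLib.RelVanish
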