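import Groth.Agent.Lib.RelVanish.Ample

/-! # Uniform vanishing over a noetherian base -/

set_option autoImplicit false
set_option linter.style.haveILetI false
set_option backward.isDefEq.respectTransparency false
universe u

open CategoryTheory CategoryTheory.Limits AlgebraicGeometry TopologicalSpace Opposite Abelian

noncomputable section

namespace GrothLib.RelVanish

open GrothLib

variable {X S : Scheme.{u}} (f : X ⟶ S) [IsProper f] [IsNoetherian S]

/-- A bound that works on a finite affine cover. -/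
theorem exists_uniform {L : X.Modules} (hL : PicF.IsInvertible L)
    (ha : ∀ W : S.Opens, IsAffineOpen W → CohB1.IsAmple (L.restrict (f ⁻¹ᵁ W).ι)) {M : X.Modules}
    (hM : Coh.IsCoh M) :
    ∃ (n₀ : ℕ) (κ : Type u) (W : κ → S.Opens), (∀ i, IsAffineOpen (W i)) ∧ (∀ x : S, ∃ i, x ∈ W i) ∧
      ∀ n, n₀ ≤ n → ∀ p, 1 ≤ p → ∀ i,
        Subsingleton (Ext.{u} (Cohom.freeFun.obj (f ⁻¹ᵁ W i))
          (Coh.toAb (CohB1.tensorMod M (CohB1.tensorPow L n))) p) := by
  obtain ⟨κ, hκ, W, hW, -, hcov⟩ := QCoh.exists_finite_affine_cover (U := (⊤ : S.Opens))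
    (by simpa using isCompact_univ)
  haveI := Fintype.ofFinite κ
  choose n hn using fun i => exists_forall_subsingleton_preimage f hL (hW i) (ha _ (hW i)) hM
  exact ⟨Finset.univ.sup n, κ, W, hW, fun x => Opens.mem_iSup.1 (hcov trivial),
    fun m hm p hp i => hn i m ((Finset.le_sup (Finset.mem_univ i)).trans hm) p hp⟩

theorem exists_isZero_RpushAb {L : X.Modules} (hL : PicF.IsInvertible L)
    (ha : ∀ W : S.Opens, IsAffineOpen W → CohB1.IsAmple (L.restrict (f ⁻¹ᵁ W).ι)) {M : X.Modules}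
    (hM : Coh.IsCoh M) :
    ∃ n₀ : ℕ, ∀ n, n₀ ≤ n → ∀ p, 0 < p →
      IsZero ((Coh.RpushAb f p).obj (Coh.toAb (CohB1.tensorMod M (CohB1.tensorPow L n)))) := by
  haveI := LocallyOfFiniteType.isLocallyNoetherian f
  obtain ⟨n₀, κ, W, hW, hcov, h⟩ := exists_uniform f hL ha hM
  refine ⟨n₀, fun n hn p hp => ?_⟩
  haveI : (CohB1.tensorMod M (CohB1.tensorPow L n)).IsQuasicoherent :=
    (CMReg.isCoh_tensorMod hM (Ample.isInvertible_tensorPow hL n)).1
  exact isZero_RpushAb_of_cover f _ p W hW hcov fun i => h n hn p hp i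

theorem exists_isZero_Rpush [HasInjectiveResolutions X.Modules] {L : X.Modules} (hL : PicF.IsInvertible L)
    (ha : ∀ W : S.Opens, IsAffineOpen W → CohB1.IsAmple (L.restrict (f ⁻¹ᵁ W).ι)) {M : X.Modules}
    (hM : Coh.IsCoh M) :
    ∃ n₀ : ℕ, ∀ n, n₀ ≤ n → ∀ p, 0 < p →
      IsZero ((Coh.Rpush f p).obj (CohB1.tensorMod M (CohB1.tensorPow L n))) := by
  haveI := LocallyOfFiniteType.isLocallyNoetherian f
  obtain ⟨n₀, κ, W, hW, hcov, h⟩ := exists_uniform f hL ha hM
  refine ⟨n₀, fun n hn p hp => ?_⟩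
  haveI : (CohB1.tensorMod M (CohB1.tensorPow L n)).IsQuasicoherent :=
    (CMReg.isCoh_tensorMod hM (Ample.isInvertible_tensorPow hL n)).1
  exact isZero_Rpush_of_cover f _ p W hW hcov fun i => h n hn p hp i

end GrothLib.RelVanish
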