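import Groth.Agent.Lib.RelVanish.Uniform
import Groth.Agent.Lib.Ample.Twisting
import Groth.Agent.Lib.InvExt.Gen
import Groth.Prelude.Def_Curv2

/-! # The counit is epi when restrictions to preimages are globally generated -/

set_option autoImplicit false
set_option linter.style.haveILetI false
set_option backward.isDefEq.respectTransparency false
universe u

open CategoryTheory CategoryTheory.Limits AlgebraicGeometry TopologicalSpace Opposite
open GrothLib.InvExt (mres)

noncomputable section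

namespace GrothLib.RelVanish

open GrothLib

variable {X Y : Scheme.{u}}

theorem free_hom_ext {U : Scheme.{u}} {ι : Type u} {N : U.Modules} {a b : (SheafOfModules.free ι : U.Modules) ⟶ N}
    (h : ∀ i, (SheafOfModules.freeHomEquiv N a i).eval (op ⊤) = (SheafOfModules.freeHomEquiv N b i).eval (op ⊤)) :
    a = b := by
  refine (SheafOfModules.freeHomEquiv N).injective (funext fun i => PresheafOfModules.sections_ext _ _ fun W => ?_)
  have ha := (SheafOfModules.freeHomEquiv N a i).2 (homOfLE (le_top : W.unop ≤ ⊤)).op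
  have hb := (SheafOfModules.freeHomEquiv N b i).2 (homOfLE (le_top : W.unop ≤ ⊤)).op
  exact (ha.symm.trans (congrArg _ (h i))).trans hb

theorem restrict_ext_of_ggen {F N : X.Modules} (a b : F ⟶ N) (U : X.Opens)
    (hg : Curv2.IsGloballyGenerated (F.restrict U.ι)) (hab : ∀ t : Γ(F, U), a.app U t = b.app U t) :
    (Scheme.Modules.restrictFunctor U.ι).map a = (Scheme.Modules.restrictFunctor U.ι).map b := by
  obtain ⟨ι, p, hp⟩ := hg
  rw [← cancel_epi p]
  refine free_hom_ext fun i => ?_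
  rw [SheafOfModules.freeHomEquiv_comp_apply, SheafOfModules.freeHomEquiv_comp_apply]
  have key : ∀ (W : X.Opens), W = U → ∀ t : Γ(F, W), a.app W t = b.app W t := by
    rintro W rfl; exact hab
  exact key _ (Scheme.Opens.ι_image_top U) _

/-- The counit is an epimorphism. -/
theorem epi_counit_of_ggen (f : X ⟶ Y) (F : X.Modules)
    (h : ∀ y : Y, ∃ V : Y.Opens, y ∈ V ∧ Curv2.IsGloballyGenerated (F.restrict (f ⁻¹ᵁ V).ι)) :
    Epi ((Scheme.Modules.pullbackPushforwardAdjunction f).counit.app F) := by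
  refine ⟨fun {N} a b hab => ?_⟩
  have h' : (Scheme.Modules.pushforward f).map a = (Scheme.Modules.pushforward f).map b := by
    apply ((Scheme.Modules.pullbackPushforwardAdjunction f).homEquiv _ N).symm.injective
    rw [Adjunction.homEquiv_counit, Adjunction.homEquiv_counit]
    simp only [Functor.id_obj, Functor.comp_obj] at *
    erw [(Scheme.Modules.pullbackPushforwardAdjunction f).counit_naturality a,
      (Scheme.Modules.pullbackPushforwardAdjunction f).counit_naturality b]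
    exact hab
  choose V hy hV using h
  refine Scheme.Modules.hom_ext _ _ fun W => ?_
  ext (t : Γ(F, W))
  refine Ample.meq_of_cover _ (fun y : Y => W ⊓ f ⁻¹ᵁ V y) (fun _ => inf_le_left)
    (fun x hx => Opens.mem_iSup.2 ⟨f x, hx, hy (f x)⟩) fun y => ?_
  rw [← Ample.app_mres, ← Ample.app_mres]
  have e := restrict_ext_of_ggen a b (f ⁻¹ᵁ V y) (hV y)
    fun s => congrArg (fun k : (Scheme.Modules.pushforward f).obj F ⟶ (Scheme.Modules.pushforward f).obj N =>
      k.app (V y) s) h'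
  have key : ∀ (W' : X.Opens), (∃ W'', (f ⁻¹ᵁ V y).ι ''ᵁ W'' = W') → ∀ s : Γ(F, W'), a.app W' s = b.app W' s := by
    rintro _ ⟨W'', rfl⟩ s
    exact congrArg (fun k : (Scheme.Modules.restrictFunctor (f ⁻¹ᵁ V y).ι).obj F ⟶
      (Scheme.Modules.restrictFunctor (f ⁻¹ᵁ V y).ι).obj N => k.app W'' s) e
  refine key _ ⟨(f ⁻¹ᵁ V y).ι ⁻¹ᵁ W, ?_⟩ _
  rw [Scheme.Hom.image_preimage_eq_opensRange_inf, Scheme.Opens.opensRange_ι, inf_comm]

theorem eventually_ggen_preimage (f : X ⟶ Y) [IsProper f] [IsLocallyNoetherian Y] {L : X.Modules}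
    (hL : PicF.IsInvertible L) {V : Y.Opens} (hV : IsAffineOpen V)
    (ha : CohB1.IsAmple (L.restrict (f ⁻¹ᵁ V).ι)) {F : X.Modules} (hF : Coh.IsCoh F) :
    ∃ n₀ : ℕ, ∀ n, n₀ ≤ n →
      Curv2.IsGloballyGenerated ((CohB1.tensorMod F (CohB1.tensorPow L n)).restrict (f ⁻¹ᵁ V).ι) := by
  haveI : IsNoetherianRing Γ(Y, V) := IsLocallyNoetherian.component_noetherian ⟨V, hV⟩
  let U : Scheme.{u} := (f ⁻¹ᵁ V : X.Opens)
  letI : U.Over (Spec (CommRingCat.of Γ(Y, V))) := ⟨BCCoh.affBase f hV⟩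
  haveI : IsProper (U ↘ Spec (CommRingCat.of Γ(Y, V))) := isProper_affBase f hV
  haveI : U.IsSeparated := SerreVanish.isSeparated_of_proper (X := U) Γ(Y, V)
  haveI : CompactSpace U := ha.2.1
  have hFU : Coh.IsCoh (F.restrict (f ⁻¹ᵁ V).ι) := Cohom.isCoh_restrict F hF (f ⁻¹ᵁ V).ι
  obtain ⟨c, ⟨e⟩⟩ := Ample.exists_cocycle ha.1
  haveI : (F.restrict (f ⁻¹ᵁ V).ι).IsQuasicoherent := hFU.1
  obtain ⟨n₀, h⟩ := c.eventually_isGloballyGenerated (F.restrict (f ⁻¹ᵁ V).ι) ((c.isAmple_iff e).mp ha).2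
    fun p => ⟨⊤, trivial, fun W hW _ => QCoh.moduleFinite_of_isFiniteType _ hFU.2 hW⟩
  refine ⟨n₀, fun n hn => ?_⟩
  obtain ⟨φ⟩ := nonempty_restrict_tensorPow (f ⁻¹ᵁ V).ι F hL n
  obtain ⟨d⟩ := c.nonempty_tensorPow_iso e n
  obtain ⟨t⟩ := c.nonempty_tensor_modTwist (F.restrict (f ⁻¹ᵁ V).ι) n
  exact Ample.isGloballyGenerated_of_iso
    (φ ≪≫ Ample.LineData.tensorModMapIso (Iso.refl _) d ≪≫ t).symm (h n hn)

end GrothLib.RelVanish
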