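import Groth.Agent.Lib.RelVanish.Basic
import Groth.Agent.Lib.QCoh.SupportExact
import Groth.Agent.Lib.HomSh.Coherent
import Groth.Agent.S0050
import Groth.Agent.Lib.CMReg.ProjSpace
import Groth.Agent.Lib.ParaPair.Basic
import Groth.Prelude.Def_LCI2

/-! # Relative ampleness and vanishing of `R^1` -/

set_option autoImplicit false
set_option linter.style.haveILetI false
set_option backward.isDefEq.respectTransparency false
universe u

open CategoryTheory CategoryTheory.Limits AlgebraicGeometry TopologicalSpace Opposite Abelian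

noncomputable section

namespace GrothLib.RelVanish

open GrothLib

variable {X S : Scheme.{u}}

/-- A quasi-coherent ideal on an open of a noetherian scheme extends to a coherent ideal. -/
theorem exists_extend_ideal [IsNoetherian X] (U : X.Opens) {I : (U : Scheme.{u}).Modules}
    (i : I ⟶ Coh.structureModule U) [Mono i] (hI : Coh.IsQCoh I) :
    ∃ (J : X.Modules) (ι : J ⟶ Coh.structureModule X), Mono ι ∧ Coh.IsCoh J ∧ Nonempty (J.restrict U.ι ≅ I) := by
  haveI : I.IsQuasicoherent := hI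
  haveI := Cohom.isQuasicoherent_structureModule (U : Scheme.{u})
  haveI := Cohom.isQuasicoherent_structureModule X
  haveI : (cokernel i).IsQuasicoherent := QCoh.isQuasicoherent_cokernel _
  haveI : QuasiCompact U.ι :=
    ⟨fun W hW hWc => U.ι.isOpenEmbedding.toIsEmbedding.isInducing.isCompact_iff.2 (TopologicalSpace.NoetherianSpace.isCompact _)⟩
  haveI : ((Scheme.Modules.pushforward U.ι).obj (cokernel i)).IsQuasicoherent := QCoh.isQuasicoherent_pushforward _ _
  let adj := Scheme.Modules.restrictAdjunction U.ι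
  let ψ : (Coh.structureModule X).restrict U.ι ⟶ cokernel i :=
    (Scheme.Modules.restrictUnitIso U.ι).hom ≫ cokernel.π i
  let φ : Coh.structureModule X ⟶ (Scheme.Modules.pushforward U.ι).obj (cokernel i) := adj.homEquiv _ _ ψ
  have hφ : (Scheme.Modules.restrictFunctor U.ι).map φ ≫ adj.counit.app (cokernel i) = ψ :=
    (adj.homEquiv_counit _ _ φ).symm.trans ((adj.homEquiv _ _).symm_apply_apply ψ)
  haveI : (kernel φ).IsQuasicoherent := QCoh.isQuasicoherent_kernel φ
  have hJ : Coh.IsCoh (kernel φ) := ⟨inferInstance, QCoh.isFiniteType_of_mono (kernel.ι φ) (HomSh.isCoh_structureModule X).2⟩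
  refine ⟨kernel φ, kernel.ι φ, inferInstance, hJ, ⟨?_⟩⟩
  let e₁ : (kernel φ).restrict U.ι ≅ kernel ((Scheme.Modules.restrictFunctor U.ι).map φ) :=
    PreservesKernel.iso (Scheme.Modules.restrictFunctor U.ι) φ
  let e₂ : kernel ((Scheme.Modules.restrictFunctor U.ι).map φ) ≅ kernel ψ :=
    (kernelCompMono _ (adj.counit.app (cokernel i))).symm ≪≫ kernelIsoOfEq hφ
  let e₃ : kernel ψ ≅ kernel (cokernel.π i) := kernelIsIsoComp (Scheme.Modules.restrictUnitIso U.ι).hom (cokernel.π i)
  exact e₁ ≪≫ e₂ ≪≫ e₃ ≪≫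
    ((kernelIsKernel (cokernel.π i)).conePointUniqueUpToIso (Abelian.monoIsKernelOfCokernel (CokernelCofork.ofπ (cokernel.π i) (cokernel.condition i)) (cokernelIsCokernel i)))

theorem subsingleton_HH_tensor_of_HHon {M L : X.Modules} (hL : PicF.IsInvertible L) (U : X.Opens) (n p : ℕ)
    {I : (U : Scheme.{u}).Modules} (e : M.restrict U.ι ≅ I) {A : Type u} [CommRing A]
    [(U : Scheme.{u}).Over (Spec (CommRingCat.of A))]
    (h : Subsingleton (Coh.HHon X (CohB1.tensorMod M (CohB1.tensorPow L n)) U p)) :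
    Subsingleton (Coh.HH U (CohB1.tensorMod I (CohB1.tensorPow (L.restrict U.ι) n)) p) := by
  obtain ⟨φ⟩ := nonempty_restrict_tensorPow U.ι M hL n
  let ψ : CohB1.tensorMod I (CohB1.tensorPow (L.restrict U.ι) n) ≅
      (CohB1.tensorMod M (CohB1.tensorPow L n)).restrict U.ι :=
    ((DCoh.tensorBi (X := (U : Scheme.{u}))).mapIso e.symm).app _ ≪≫ φ.symm
  exact (Euler.hhEquiv (A := A) ψ p).toEquiv.subsingleton

/-- Vanishing of `R¹` of twisted ideals makes `L` relatively ample. -/
theorem isRelAmple_of_R1_vanish (f : X ⟶ S) [IsProper f] [IsNoetherian S] [HasInjectiveResolutions X.Modules]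
    {L : X.Modules} (hL : PicF.IsInvertible L)
    (h : ∀ (J : X.Modules) (ι : J ⟶ Coh.structureModule X), Mono ι → Coh.IsCoh J →
      ∃ N : ℕ, ∀ n : ℕ, N ≤ n → IsZero ((Coh.Rpush f 1).obj (CohB1.tensorMod J (CohB1.tensorPow L n)))) :
    RelAmple.IsRelAmple f L := by
  haveI : IsNoetherian X := by
    haveI := LocallyOfFiniteType.isLocallyNoetherian f
    haveI : CompactSpace X := QuasiCompact.compactSpace_of_compactSpace f
    exact {}
  refine ⟨inferInstance, fun V => ?_⟩
  have hLU : PicF.IsInvertible (L.restrict (f ⁻¹ᵁ V.1).ι) := ParaPair.isInvertible_restrict _ hL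
  haveI : CompactSpace ((f ⁻¹ᵁ V.1 : X.Opens) : Scheme.{u}) :=
    isCompact_iff_compactSpace.1 (TopologicalSpace.NoetherianSpace.isCompact _)
  refine Groth.Agent.S0050.result _ _ hLU fun I i hi hI => ?_
  obtain ⟨J, ι, hι, hJ, ⟨e⟩⟩ := exists_extend_ideal (f ⁻¹ᵁ V.1) i hI
  obtain ⟨N, hN⟩ := h J ι hι hJ
  haveI := hJ.1
  haveI : (CohB1.tensorMod J (CohB1.tensorPow L (N + 1))).IsQuasicoherent :=
    (CMReg.isCoh_tensorMod hJ (Ample.isInvertible_tensorPow hL (N + 1))).1
  have h1 : Subsingleton (Coh.HHon X (CohB1.tensorMod J (CohB1.tensorPow L (N + 1))) (f ⁻¹ᵁ V.1) 1) :=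
    subsingleton_HHon_of_isZero_Rpush f (CohB1.tensorMod J (CohB1.tensorPow L (N + 1))) 1 V.2 (hN _ (Nat.le_succ N))
  letI : ((f ⁻¹ᵁ V.1 : X.Opens) : Scheme.{u}).Over (Spec (CommRingCat.of Γ(S, V.1))) := ⟨BCCoh.affBase f V.2⟩
  exact ⟨N, subsingleton_HH_tensor_of_HHon hL (f ⁻¹ᵁ V.1) (N + 1) 1 e (A := Γ(S, V.1)) h1⟩

end GrothLib.RelVanish
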