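import Groth.Agent.Lib.Nakai.Restrict
import Groth.Agent.Lib.SchImage.Reduced

/-! # Ampleness tested on closed pieces -/

set_option autoImplicit false
universe u
open CategoryTheory CategoryTheory.Limits AlgebraicGeometry TopologicalSpace

namespace GrothLib.RelVanish

theorem isAmple_pullback_of_range_subset {X Z : Scheme.{u}} (i : Z ⟶ X) [IsClosedImmersion i] [IsIntegral Z]
    {L : X.Modules} (I : X.IdealSheafData) (hsub : Set.range i ⊆ (I.support : Set X))
    (hI : CohB1.IsAmple ((Scheme.Modules.pullback I.subschemeι).obj L)) :
    CohB1.IsAmple ((Scheme.Modules.pullback i).obj L) := by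
  have hle : I.subschemeι.ker ≤ i.ker := by
    rw [Scheme.IdealSheafData.ker_subschemeι, GrothLib.SchImage.ker_eq_vanishingIdeal i]
    refine Scheme.IdealSheafData.le_support_iff_le_vanishingIdeal.1 ?_
    change closure (Set.range i) ⊆ (I.support : Set X)
    exact closure_minimal hsub I.support.isClosed
  let g := IsClosedImmersion.lift I.subschemeι i hle
  have hg : g ≫ I.subschemeι = i := IsClosedImmersion.lift_fac I.subschemeι i hle
  haveI : IsClosedImmersion (g ≫ I.subschemeι) := hg ▸ inferInstance
  haveI : IsClosedImmersion g := IsClosedImmersion.of_comp g I.subschemeι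
  have h' := GrothLib.Ample.isAmple_pullback_of_isAffineHom g hI
  rw [GrothLib.Ample.isAmple_pullback_comp_iff, hg] at h'
  exact h'

theorem support_union_of_mul_eq_bot {X : Scheme.{u}} (I J : X.IdealSheafData) (h : I * J = ⊥) (x : X) :
    x ∈ I.support ∨ x ∈ J.support := by
  have h1 : (I * J).support = I.support ⊔ J.support := Scheme.IdealSheafData.support_mul _ _
  rw [h, Scheme.IdealSheafData.support_bot] at h1
  exact (show x ∈ (I.support : Set X) ∪ J.support from (h1.le (Set.mem_univ x)))

end GrothLib.RelVanish
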